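import Cfsg.Agent.Lib.Lie.G2TwoUnitary.Tables
import Cfsg.Agent.Lib.Lie.GroupCard
import Cfsg.Agent.Lib.Lie.TorusCerts
import Cfsg.Agent.Lib.Lie.WeylG2
import Cfsg.Agent.Lib.Classical.UnitaryOrders
import Cfsg.Agent.Lib.Classical.UnitaryCount
import Cfsg.Agent.Lib.Small.Unitary.Simple
import Cfsg.Agent.Lib.Small.Hermitian

/-!
# The derived group of the group of type G2 over two elements as a unitary group
-/

set_option autoImplicit false
set_option linter.unusedSectionVars false
set_option maxRecDepth 100000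

namespace Cfsg.Agent.Lie.G2Two

open Matrix Cfsg.Lie

/-- Matrices permuting a family of lines act on the index set. -/
theorem exists_action {G ι L : Type*} {N : ℕ} [Group G] [Fintype ι] [DecidableEq ι] [Field L]
    (M : G →* Matrix ι ι L) (v : Fin N → ι → L) (hne : ∀ a, v a ≠ 0) (huniq : ∀ a b, ∀ c : L, v a = c • v b → a = b)
    (hcl : ∀ g a, ∃ b, ∃ c : L, M g *ᵥ v a = c • v b) :
    ∃ ρ : G →* Equiv.Perm (Fin N), ∀ g a b, (∃ c : L, M g *ᵥ v a = c • v b) ↔ ρ g a = b := by
  choose f c hf using hcl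
  have hc : ∀ g a, c g a ≠ 0 := fun g a e => hne a (by
    have := hf g a
    rw [e, zero_smul] at this
    have e' := congrArg (fun w => M g⁻¹ *ᵥ w) this
    simpa [Matrix.mulVec_mulVec, ← map_mul] using e')
  have hu : ∀ g a b (d : L), M g *ᵥ v a = d • v b → f g a = b := fun g a b d e =>
    huniq _ _ ((c g a)⁻¹ * d) (by rw [← smul_smul, ← e, hf, smul_smul, inv_mul_cancel₀ (hc g a), one_smul])
  have hmul : ∀ g g' a, f (g * g') a = f g (f g' a) := fun g g' a => hu _ _ _ (c g' a * c g (f g' a)) (by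
    rw [map_mul, ← Matrix.mulVec_mulVec, hf, Matrix.mulVec_smul, hf, smul_smul])
  have h1 : ∀ a, f 1 a = a := fun a => hu _ _ _ 1 (by rw [map_one, Matrix.one_mulVec, one_smul])
  refine ⟨MonoidHom.mk' (fun g => ⟨f g, f g⁻¹, fun a => by rw [← hmul, inv_mul_cancel, h1],
    fun a => by rw [← hmul, mul_inv_cancel, h1]⟩) (fun g g' => Equiv.ext fun a => hmul g g' a),
    fun g a b => ⟨fun ⟨d, hd⟩ => hu g a b d hd, fun e => ⟨c g a, e ▸ hf g a⟩⟩⟩

/-! ### The group of type G2 -/

section G2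

variable {F : Type*} [Field F] [Fintype F]

theorem two_zero (hF : Fintype.card F = 2) : ((2 : ℕ) : F) = 0 := hF ▸ Nat.cast_card_eq_zero F

theorem cases_F (hF : Fintype.card F = 2) (t : F) : t = 0 ∨ t = 1 := by
  classical
  by_contra hne
  push Not at hne
  have h3 : ({0, 1, t} : Finset F).card ≤ Fintype.card F := Finset.card_le_univ _
  rw [hF, Finset.card_insert_of_notMem (by simp [Ne.symm hne.1]),
    Finset.card_insert_of_notMem (by simp [Ne.symm hne.2]), Finset.card_singleton] at h3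
  omega

theorem cast_mod_two (hF : Fintype.card F = 2) (n : ℕ) : ((n % 2 : ℕ) : F) = n := by
  conv_rhs => rw [← Nat.mod_add_div n 2]
  rw [Nat.cast_add, Nat.cast_mul, two_zero hF, zero_mul, add_zero]

theorem bit_inj (hF : Fintype.card F = 2) {a b : ℕ} (ha : a < 2) (hb : b < 2) (e : (a : F) = b) : a = b := by
  interval_cases a <;> interval_cases b <;> simp at e ⊢

/-- The position of a coordinate. -/
def posG (p : chevG2.Idx) : ℕ := (idxEquiv chevG2 p : ℕ)

theorem posG_lt (p : chevG2.Idx) : posG p < 14 := (idxEquiv chevG2 p).isLt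

/-- The long root vectors. -/
def vG (j : ℕ) : chevG2.Idx → F := fun p => (vecG j (posG p) : F)

theorem x_entry (hF : Fintype.card F = 2) {r : ℕ} (hr : r < 12) (p q : chevG2.Idx) :
    chevG2.x F r 1 p q = (entG r (posG p) (posG q) : F) := by
  have h := ev_entAt (F := F) (D := chevG2) r 1
  rw [Int.cast_one] at h
  rw [← h, Matrix.add_apply, ev_apply_one]
  have hone : (1 : Matrix chevG2.Idx chevG2.Idx F) p q = ((if posG p = posG q then (1 : ℤ) else 0 : ℤ) : F) := by
    rw [Matrix.one_apply]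
    by_cases e : p = q
    · simp [e]
    · rw [if_neg e, if_neg (show posG p ≠ posG q from fun e' => e ((idxEquiv chevG2).injective (Fin.ext e')))]
      simp
  rw [hone]
  obtain ⟨k, hk⟩ := Int.dvd_of_emod_eq_zero (ent_check r hr _ (posG_lt p) _ (posG_lt q))
  have h2 : (2 : F) = 0 := by exact_mod_cast two_zero hF
  have hk' := congrArg (fun z : ℤ => (z : F)) hk
  push_cast at hk'
  rw [h2, zero_mul, sub_eq_zero] at hk'
  push_cast [posG] at hk' ⊢
  by_cases e : (idxEquiv chevG2 p : ℕ) = (idxEquiv chevG2 q : ℕ) <;> simp only [e, if_true, if_false, Int.cast_one, Int.cast_zero] at hk' ⊢ <;> exact hk'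

theorem x_vec (hF : Fintype.card F = 2) {r : ℕ} (hr : r < 12) {j : ℕ} (hj : j < 63) :
    chevG2.x F r 1 *ᵥ vG j = vG (perm r j) := by
  funext p
  show ∑ q, chevG2.x F r 1 p q * vG j q = _
  rw [vG, ← (table_G r hr j hj).2 _ (posG_lt p), imG, cast_mod_two hF, Nat.cast_sum,
    Finset.sum_range fun k => ((entG r (posG p) k * vecG j k : ℕ) : F)]
  refine Fintype.sum_equiv (idxEquiv chevG2) _ _ fun q => ?_
  rw [x_entry hF hr, vG, Nat.cast_mul]
  rfl

theorem vG_ne (hF : Fintype.card F = 2) {j : ℕ} (hj : j < 63) : (vG j : chevG2.Idx → F) ≠ 0 := by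
  obtain ⟨i, hi, hne⟩ := (distinct_G j hj).1
  intro e
  refine hne (bit_inj hF (Nat.mod_lt _ (by norm_num)) (by norm_num) ?_)
  have := congrFun e ((idxEquiv chevG2).symm ⟨i, hi⟩)
  rw [vG, posG, Equiv.apply_symm_apply] at this
  rw [Nat.cast_zero]
  exact this

theorem vG_uniq (hF : Fintype.card F = 2) {a b : ℕ} (ha : a < 63) (hb : b < 63) {c : F}
    (e : (vG a : chevG2.Idx → F) = c • vG b) : a = b := by
  rcases cases_F hF c with rfl | rfl
  · exact absurd (by rw [e, zero_smul]) (vG_ne hF ha)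
  rw [one_smul] at e
  refine (distinct_G a ha).2 b hb fun i hi => bit_inj hF (Nat.mod_lt _ (by norm_num)) (Nat.mod_lt _ (by norm_num)) ?_
  have := congrFun e ((idxEquiv chevG2).symm ⟨i, hi⟩)
  rw [vG, vG, posG, Equiv.apply_symm_apply] at this
  exact this

/-- The group permutes the long root vectors. -/
theorem group_closed (hF : Fintype.card F = 2) (g : chevG2.group F) (a : Fin 63) :
    ∃ b : Fin 63, ∃ c : F, ((g : GL chevG2.Idx F) : Matrix chevG2.Idx chevG2.Idx F) *ᵥ vG a = c • vG b := by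
  suffices h : ∀ g ∈ chevG2.group F, ∀ a : Fin 63, ∃ b : Fin 63,
      ((g : GL chevG2.Idx F) : Matrix chevG2.Idx chevG2.Idx F) *ᵥ vG a = vG b from
    ⟨(h g g.2 a).choose, 1, by rw [one_smul]; exact (h g g.2 a).choose_spec⟩
  clear g a
  intro g hg
  rw [factsG2.group_eq] at hg
  induction hg using Subgroup.closure_induction with
  | mem x hx =>
    obtain ⟨⟨r, t⟩, rfl⟩ := hx
    intro a
    by_cases hr : r < 12
    · rcases cases_F hF t with rfl | rfl
      · exact ⟨a, by simp [factsG2.xg_zero]⟩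
      · exact ⟨⟨perm r a, (table_G r hr a a.isLt).1⟩, by rw [Facts.coe_xg]; exact x_vec hF hr a.isLt⟩
    · exact ⟨a, by simp [factsG2.xg_out (show chevG2.nroots ≤ r from Nat.le_of_not_lt hr)]⟩
  | one => exact fun a => ⟨a, by simp⟩
  | mul x y _ _ ex ey =>
    intro a
    obtain ⟨b, hb⟩ := ey a
    obtain ⟨c, hc⟩ := ex b
    exact ⟨c, by rw [Units.val_mul, ← Matrix.mulVec_mulVec, hb, hc]⟩
  | inv x _ ex =>
    choose f hf using ex
    have hinj : Function.Injective f := fun a b e => by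
      have h' := congrArg (fun w => ((x⁻¹ : GL chevG2.Idx F) : Matrix chevG2.Idx chevG2.Idx F) *ᵥ w)
        ((hf a).trans ((congrArg (fun z : Fin 63 => (vG z : chevG2.Idx → F)) e).trans (hf b).symm))
      simp only [Matrix.mulVec_mulVec, Units.inv_mul, Matrix.one_mulVec] at h'
      exact Fin.ext (vG_uniq hF a.isLt b.isLt (c := 1) (by rw [one_smul]; exact h'))
    intro a
    obtain ⟨b, hb⟩ := (Finite.injective_iff_surjective.mp hinj) a
    refine ⟨b, ?_⟩
    rw [← hb, ← hf b, Matrix.mulVec_mulVec, Units.inv_mul, Matrix.one_mulVec]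

/-- The faithful action on the long root vectors. -/
theorem exists_G2_action (hF : Fintype.card F = 2) :
    ∃ ρ : chevG2.group F →* Equiv.Perm (Fin 63), Function.Injective ρ ∧
      (∀ (r : ℕ) (hr : r < 12) (a : Fin 63),
        ρ ⟨factsG2.xg r 1, factsG2.xg_mem_group r 1⟩ a = ⟨perm r a, (table_G r hr a a.isLt).1⟩) := by
  obtain ⟨ρ, hρ⟩ := exists_action (((Units.coeHom (Matrix chevG2.Idx chevG2.Idx F))).comp (chevG2.group F).subtype)
    (fun a : Fin 63 => vG a) (fun a => vG_ne hF a.isLt) (fun a b c e => Fin.ext (vG_uniq hF a.isLt b.isLt e))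
    (group_closed hF)
  refine ⟨ρ, (injective_iff_map_eq_one ρ).mpr fun g hg => ?_, fun r hr a => (hρ _ a _).mp ⟨1, ?_⟩⟩
  · have hfix : ∀ a : Fin 63, ((g : GL chevG2.Idx F) : Matrix chevG2.Idx chevG2.Idx F) *ᵥ vG a = vG a := fun a => by
      obtain ⟨c, hc⟩ := (hρ g a a).mpr (by rw [hg]; rfl)
      rcases cases_F hF c with rfl | rfl
      · rw [zero_smul] at hc
        have := congrArg (fun w => (((g : GL chevG2.Idx F)⁻¹ : GL chevG2.Idx F) : Matrix chevG2.Idx chevG2.Idx F) *ᵥ w) hc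
        simp only [MonoidHom.coe_comp, Function.comp_apply, Units.coeHom_apply, Subgroup.coe_subtype,
          Matrix.mulVec_mulVec, Units.inv_mul, Matrix.one_mulVec, Matrix.mulVec_zero] at this
        exact absurd this (vG_ne hF a.isLt)
      · rwa [one_smul] at hc
    refine Subtype.ext (Units.ext (Matrix.ext_of_mulVec_single fun p => ?_))
    have hsingle : (Pi.single p 1 : chevG2.Idx → F) =
        ∑ j : Fin 63, (dig (dig spanTable 9223372036854775808 (posG p)) 2 j : F) • vG j := by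
      funext q
      rw [Finset.sum_apply]
      simp only [Pi.smul_apply, smul_eq_mul, vG, ← Nat.cast_mul]
      rw [← Nat.cast_sum, ← cast_mod_two hF,
        ← Finset.sum_range fun j => dig (dig spanTable 9223372036854775808 (posG p)) 2 j * vecG j (posG q),
        span_G _ (posG_lt p) _ (posG_lt q), Pi.single_apply]
      by_cases e : q = p
      · simp [e]
      · rw [if_neg e, if_neg (show posG q ≠ posG p from fun e' => e ((idxEquiv chevG2).injective (Fin.ext e')))]
        simp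
    rw [hsingle, Matrix.mulVec_sum, OneMemClass.coe_one, Units.val_one, Matrix.one_mulVec]
    exact Finset.sum_congr rfl fun j _ => by rw [Matrix.mulVec_smul, hfix]
  · rw [one_smul]
    exact x_vec hF hr a.isLt

theorem card_G2 (hF : Fintype.card F = 2) : Nat.card (chevG2.group F) = 12096 := by
  have h := factsG2.card_group hF kerCertG2 [2, 6] rfl lenSumG2
  have hn : chevG2.nroots / 2 = 6 := by rfl
  rw [hn] at h
  simp only [List.map_cons, List.map_nil, List.prod_cons, List.prod_nil, mul_one] at h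
  norm_num at h
  omega

end G2

/-! ### The unitary group -/

section Unitary

variable {K : Type*} [Field K] [Fintype K]

theorem three_zero (hK : Fintype.card K = 9) : (3 : K) = 0 := by
  have := FiniteField.cast_card_eq_zero K
  rw [hK] at this
  have e : (3 : K) * 3 = 0 := by rw [← this]; norm_num
  exact mul_self_eq_zero.mp e

theorem exists_sqrt (hK : Fintype.card K = 9) : ∃ i : K, i * i = -1 := by
  obtain ⟨i, hi⟩ := FiniteField.isSquare_neg_one_iff.mpr (show Fintype.card K % 4 ≠ 3 by omega)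
  exact ⟨i, hi.symm⟩

variable {i : K}

/-- The element with a given code. -/
def el (i : K) (n : ℕ) : K := ((n % 3 : ℕ) : K) + ((n / 3 : ℕ) : K) * i

theorem cast_three (hK : Fintype.card K = 9) (n : ℕ) : ((n % 3 : ℕ) : K) = n := by
  conv_rhs => rw [← Nat.mod_add_div n 3]
  push_cast
  rw [three_zero hK, zero_mul, add_zero]

theorem el_mk (hK : Fintype.card K = 9) (a b : ℕ) : el i (a % 3 + 3 * (b % 3)) = (a : K) + (b : K) * i := by
  rw [el, show (a % 3 + 3 * (b % 3)) % 3 = a % 3 by omega, show (a % 3 + 3 * (b % 3)) / 3 = b % 3 by omega,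
    cast_three hK, cast_three hK]

theorem el_add (hK : Fintype.card K = 9) (x y : ℕ) : el i (add9 x y) = el i x + el i y := by
  rw [add9, el_mk hK, el, el, cast_three hK, cast_three hK]
  push_cast
  ring

theorem el_mul (hK : Fintype.card K = 9) (hi : i * i = -1) (x y : ℕ) : el i (mul9 x y) = el i x * el i y := by
  rw [mul9, el_mk hK, el, el]
  push_cast
  rw [cast_three hK, cast_three hK]
  linear_combination (-((x / 3 : ℕ) : K) * ((y / 3 : ℕ) : K)) * hi +
    (((x / 3 : ℕ) : K) * ((y / 3 : ℕ) : K)) * three_zero hK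

theorem el_inj (hK : Fintype.card K = 9) (hi : i * i = -1) {x y : ℕ} (hx : x < 9) (hy : y < 9)
    (e : el i x = el i y) : x = y := by
  have key : ∀ x < 9, ∀ y < 9,
      ((x % 3 + 2 * (y % 3)) * (x % 3 + 2 * (y % 3)) + (y / 3 + 2 * (x / 3)) * (y / 3 + 2 * (x / 3))) % 3 = 0 →
        x = y := by decide
  refine key x hx y hy ?_
  have h0 : (((x % 3 + 2 * (y % 3)) * (x % 3 + 2 * (y % 3)) + (y / 3 + 2 * (x / 3)) * (y / 3 + 2 * (x / 3)) : ℕ) : K) = 0 := by
    rw [el, el] at e
    have h3 := three_zero hK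
    generalize (x % 3 : ℕ) = a, (x / 3 : ℕ) = b, (y % 3 : ℕ) = c, (y / 3 : ℕ) = d at e ⊢
    push_cast at e ⊢
    have e1 : (a : K) + 2 * c = ((d : K) + 2 * b) * i := by linear_combination e + ((c : K) - b * i) * h3
    linear_combination ((a : K) + 2 * c + ((d : K) + 2 * b) * i) * e1 + (((d : K) + 2 * b) ^ 2) * hi
  rw [← cast_three hK] at h0
  have hlt : ∀ n < 3, ((n : ℕ) : K) = 0 → n = 0 := by
    intro n hn e'
    interval_cases n
    · rfl
    · simp at e'
    · exfalso
      exact one_ne_zero (α := K) (by linear_combination three_zero hK - e')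
  exact hlt _ (Nat.mod_lt _ (by norm_num)) h0

theorem el_surj (hK : Fintype.card K = 9) (hi : i * i = -1) (z : K) : ∃ n < 9, el i n = z := by
  have hb : Function.Bijective fun n : Fin 9 => el i n :=
    (Fintype.bijective_iff_injective_and_card _).mpr
      ⟨fun a b e => Fin.ext (el_inj hK hi a.isLt b.isLt e), by rw [Fintype.card_fin, hK]⟩
  obtain ⟨n, hn⟩ := hb.2 z
  exact ⟨n, n.isLt, hn⟩

theorem el_zero : el i 0 = 0 := by simp [el]

theorem el_one : el i 1 = 1 := by simp [el]

variable {σ : K ≃+* K} (hσ : Cfsg.Agent.Classical.IsUSigma 3 σ)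

include hσ

theorem el_conj (hK : Fintype.card K = 9) (hi : i * i = -1) (x : ℕ) : el i (conj9 x) = σ (el i x) := by
  rw [conj9, el_mk hK, el, map_add, map_mul, map_natCast, map_natCast, hσ.apply_eq i]
  push_cast
  rw [cast_three hK]
  linear_combination (-((x / 3 : ℕ) : K) * i) * hi + ((x / 3 : ℕ) : K) * i * three_zero hK

/-- The vector with given codes. -/
def vU (i : K) (x : ℕ → ℕ) : Fin 3 → K := fun t => el i (x t)

theorem form_vU (hK : Fintype.card K = 9) (hi : i * i = -1) (x y : ℕ → ℕ) :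
    Cfsg.hermForm 3 K 3 (vU i x) (vU i y) = el i (formU x y) := by
  rw [formU, el_add hK, el_add hK, el_mul hK hi, el_mul hK hi, el_mul hK hi, el_conj hσ hK hi, el_conj hσ hK hi,
    el_conj hσ hK hi, hσ.hermForm_eq]
  simp [vU, Fin.sum_univ_three]

theorem vU_norm (hK : Fintype.card K = 9) (hi : i * i = -1) {j : ℕ} (hj : j < 63) :
    Cfsg.hermForm 3 K 3 (vU i (vecU j)) (vU i (vecU j)) ≠ 0 := by
  rw [form_vU hσ hK hi]
  intro e
  refine (point_U j hj).1 (el_inj hK hi (by rw [formU]; exact add9_lt _ _) (by norm_num) ?_)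
  rw [e, el_zero]

local notation "SU3" => Cfsg.SU 3 K 3

theorem vU_cover (hK : Fintype.card K = 9) (hi : i * i = -1) (y : Fin 3 → K) (hh : Cfsg.hermForm 3 K 3 y y ≠ 0) :
    ∃ b : Fin 63, ∃ c : K, y = c • vU i (vecU b) := by
  choose n hn en using fun k => el_surj hK hi (y k)
  obtain ⟨x, hx⟩ : ∃ x : ℕ → ℕ, x = fun k => if k = 0 then n 0 else if k = 1 then n 1 else n 2 := ⟨_, rfl⟩
  have hyx : y = vU i x := funext fun t => by
    fin_cases t <;> simp [vU, hx, en]
  rw [hyx, form_vU hσ hK hi] at hh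
  have hf : formU x x ≠ 0 := fun e0 => hh (by rw [e0, el_zero])
  rw [hx] at hf
  obtain ⟨hlt, e0, e1, e2⟩ := cover_U _ (hn 0) _ (hn 1) _ (hn 2) hf
  refine ⟨⟨_, hlt⟩, el i (findU (n 0) (n 1) (n 2) % 16), ?_⟩
  funext t
  simp only [Pi.smul_apply, smul_eq_mul, vU]
  rw [← el_mul hK hi, ← en]
  fin_cases t
  exacts [congrArg (el i) e0, congrArg (el i) e1, congrArg (el i) e2]

theorem exists_U_action (hK : Fintype.card K = 9) (hi : i * i = -1) :
    ∃ π : SU3 →* Equiv.Perm (Fin 63), ∀ (g : SU3) (a b : Fin 63),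
      (∃ c : K, ((g : Matrix.SpecialLinearGroup (Fin 3) K) : Matrix (Fin 3) (Fin 3) K) *ᵥ vU i (vecU a) =
        c • vU i (vecU b)) ↔ π g a = b := by
  have hne : ∀ a : Fin 63, vU i (vecU a) ≠ 0 := fun a e => vU_norm hσ hK hi a.isLt (by
    rw [e]; simp [Cfsg.hermForm])
  refine exists_action ((Cfsg.slToMat 3 K).comp (Cfsg.SU 3 K 3).subtype) (fun a : Fin 63 => vU i (vecU a)) hne
    (fun a b c e => Fin.ext ?_) fun g a => ?_
  · obtain ⟨n, hn, rfl⟩ := el_surj hK hi c
    have hn0 : n ≠ 0 := fun e0 => hne a (by rw [e, e0, el_zero, zero_smul])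
    have e' : ∀ k, k < 3 → vecU a k = mul9 n (vecU b k) := fun k hk =>
      el_inj hK hi (Nat.mod_lt _ (by norm_num)) (mul9_lt _ _) (by rw [el_mul hK hi]; exact congrFun e ⟨k, hk⟩)
    have h1 := (point_U b b.isLt).2.2.2.2 n hn hn0
    rw [← e' 0 (by norm_num), ← e' 1 (by norm_num), ← e' 2 (by norm_num)] at h1
    have hone : ∀ k, k < 3 → mul9 1 (vecU a k) = vecU a k := fun k _ =>
      el_inj hK hi (mul9_lt _ _) (Nat.mod_lt _ (by norm_num)) (by rw [el_mul hK hi, el_one, one_mul])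
    have h2 := (point_U a a.isLt).2.2.2.2 1 (by norm_num) (by norm_num)
    rw [hone 0 (by norm_num), hone 1 (by norm_num), hone 2 (by norm_num)] at h2
    exact h2.symm.trans h1
  · obtain ⟨y, hy⟩ : ∃ y, y = Cfsg.slToMat 3 K g *ᵥ vU i (vecU a) := ⟨_, rfl⟩
    have hh : Cfsg.hermForm 3 K 3 y y ≠ 0 := by
      rw [hy, show Cfsg.hermForm 3 K 3 (Cfsg.slToMat 3 K g *ᵥ vU i (vecU a)) (Cfsg.slToMat 3 K g *ᵥ vU i (vecU a)) =
        Cfsg.hermForm 3 K 3 (vU i (vecU a)) (vU i (vecU a)) from g.2 _ _]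
      exact vU_norm hσ hK hi a.isLt
    obtain ⟨b, c, e⟩ := vU_cover hσ hK hi y hh
    exact ⟨b, c, hy.symm.trans e⟩

theorem gram_mem (g : Matrix.SpecialLinearGroup (Fin 3) K)
    (h : (g : Matrix (Fin 3) (Fin 3) K)ᵀ * (g : Matrix (Fin 3) (Fin 3) K).map σ = 1) : g ∈ Cfsg.SU 3 K 3 := by
  intro u v
  change Cfsg.hermForm 3 K 3 ((g : Matrix (Fin 3) (Fin 3) K) *ᵥ u) ((g : Matrix (Fin 3) (Fin 3) K) *ᵥ v) = _
  have e : ∀ x y : Fin 3 → K, Cfsg.hermForm 3 K 3 x y = x ⬝ᵥ (σ ∘ y) := fun x y => by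
    simp [Cfsg.hermForm, dotProduct, hσ.apply_eq]
  have h1 : σ ∘ ((g : Matrix (Fin 3) (Fin 3) K) *ᵥ v) = (g : Matrix (Fin 3) (Fin 3) K).map σ *ᵥ (σ ∘ v) :=
    funext fun k => RingHom.map_mulVec σ.toRingHom _ v k
  rw [e, e, h1, ← Matrix.vecMul_transpose, ← Matrix.dotProduct_mulVec, Matrix.mulVec_mulVec, h, Matrix.one_mulVec]

/-- The unitary matrices of the tables. -/
theorem exists_table_matrix (hK : Fintype.card K = 9) (hi : i * i = -1) {r : ℕ} (hr : r < 12) :
    ∃ g : SU3, ∀ a b : Fin 3, ((g : Matrix.SpecialLinearGroup (Fin 3) K) : Matrix (Fin 3) (Fin 3) K) a b =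
      el i (entU r a b) := by
  obtain ⟨hgram, hdet⟩ := mat_U r hr
  obtain ⟨M, hM⟩ : ∃ M : Matrix (Fin 3) (Fin 3) K, ∀ a b, M a b = el i (entU r a b) :=
    ⟨Matrix.of fun a b => el i (entU r a b), fun _ _ => rfl⟩
  have hd : M.det = 1 := by
    rw [Matrix.det_fin_three]
    have := congrArg (el i) hdet
    simp only [el_add hK, el_mul hK hi, el_one] at this
    have hm1 : el i 2 = -1 := by
      simp [el]
      linear_combination three_zero hK
    rw [hm1] at this
    simp only [hM, Fin.val_zero, Fin.val_one, Fin.val_two]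
    linear_combination this
  refine ⟨⟨⟨M, hd⟩, gram_mem hσ _ ?_⟩, hM⟩
  ext a b
  have := congrArg (el i) (hgram a a.isLt b b.isLt)
  simp only [formU, el_add hK, el_mul hK hi, el_conj hσ hK hi] at this
  show (Mᵀ * M.map σ) a b = _
  rw [Matrix.mul_apply, Fin.sum_univ_three, Matrix.one_apply]
  simp only [Matrix.transpose_apply, Matrix.map_apply, hM, Fin.val_zero, Fin.val_one, Fin.val_two]
  rw [this]
  by_cases e : a = b
  · simp [e, el_one]
  · simp [e, Fin.val_ne_of_ne e, el_zero]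

end Unitary

variable {F K : Type*} [Field F] [Fintype F] [Field K] [Fintype K]

/-- The isomorphism. -/
theorem exists_iso (hF : Fintype.card F = 2) (hK : Fintype.card K = 9) :
    Nonempty (↥(commutator ↥(chevG2.group F)) ≃* Cfsg.PSU 3 K 3) := by
  classical
  obtain ⟨i, hi⟩ := exists_sqrt hK
  obtain ⟨p, e, σ, -, -, -, -, hσ⟩ := Cfsg.Agent.Classical.exists_usigma (F := K) (q := 3) (by rw [hK]; norm_num)
  obtain ⟨ρ, hρinj, hρ⟩ := exists_G2_action hF
  obtain ⟨π, hπ⟩ := exists_U_action hσ hK hi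
  -- the field automorphism
  obtain ⟨τ, hτ⟩ : ∃ τ : Equiv.Perm (Fin 63), ∀ a : Fin 63, (τ a : ℕ) = tau a :=
    ⟨Function.Involutive.toPerm (fun a : Fin 63 => ⟨tau a, (point_U a a.isLt).2.1⟩)
      (fun a => Fin.ext (point_U a a.isLt).2.2.1), fun a => rfl⟩
  have hττ : τ * τ = 1 := Equiv.ext fun a => Fin.ext (by
    rw [Equiv.Perm.mul_apply, hτ, hτ, (point_U a a.isLt).2.2.1]; rfl)
  have hσv : ∀ a : Fin 63, ∃ d : K, d ≠ 0 ∧ σ ∘ vU i (vecU a) = d • vU i (vecU (τ a)) := fun a => by
    obtain ⟨n, hn⟩ : ∃ n, n = findU (conj9 (vecU a 0)) (conj9 (vecU a 1)) (conj9 (vecU a 2)) % 16 := ⟨_, rfl⟩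
    have e : σ ∘ vU i (vecU a) = el i n • vU i (vecU (τ a)) := funext fun t => by
      rw [Function.comp_apply, Pi.smul_apply, smul_eq_mul, vU, vU, ← el_conj hσ hK hi, ← el_mul hK hi, hτ, hn,
        (point_U a a.isLt).2.2.2.1 t t.isLt]
    refine ⟨el i n, fun e0 => ?_, e⟩
    rw [e0, zero_smul] at e
    refine vU_norm hσ hK hi a.isLt ?_
    have hz : vU i (vecU a) = 0 := funext fun t => σ.injective (by
      rw [Pi.zero_apply, map_zero]; exact congrFun e t)
    rw [hz]; simp [Cfsg.hermForm]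
  -- the field automorphism normalizes
  obtain ⟨H, hH⟩ : ∃ H : Subgroup (Equiv.Perm (Fin 63)), H = π.range := ⟨_, rfl⟩
  have hnorm : ∀ x ∈ H, τ * x * τ ∈ H := by
    rw [hH]
    rintro _ ⟨g, rfl⟩
    have hσσ : ∀ z, σ (σ z) = z := hσ.involutive
    have hgram := Cfsg.Agent.Classical.UCount.gram_mul hσ
      (show Matrix.SpecialLinearGroup.toGL (g : Matrix.SpecialLinearGroup (Fin 3) K) ∈ Cfsg.GU 3 K 3 from g.2)
    obtain ⟨A, hA⟩ : ∃ A, A = ((g : Matrix.SpecialLinearGroup (Fin 3) K) : Matrix (Fin 3) (Fin 3) K) := ⟨_, rfl⟩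
    have hA' : ((Matrix.SpecialLinearGroup.toGL (g : Matrix.SpecialLinearGroup (Fin 3) K) : GL (Fin 3) K) :
        Matrix (Fin 3) (Fin 3) K) = A := hA.symm
    rw [hA'] at hgram
    have hd : (A.map σ).det = 1 := by
      rw [← RingEquiv.coe_toRingHom σ, ← RingHom.mapMatrix_apply, ← RingHom.map_det, hA,
        Matrix.SpecialLinearGroup.det_coe, map_one]
    obtain ⟨g', hg'⟩ : ∃ g' : Cfsg.SU 3 K 3,
        ((g' : Matrix.SpecialLinearGroup (Fin 3) K) : Matrix (Fin 3) (Fin 3) K) = A.map σ := by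
      refine ⟨⟨⟨A.map σ, hd⟩, gram_mem hσ _ ?_⟩, rfl⟩
      have h2 := congrArg (fun M : Matrix (Fin 3) (Fin 3) K => M.map σ) hgram
      simp only [Matrix.map_mul] at h2
      rw [Matrix.map_one _ (map_zero σ) (map_one σ), Matrix.transpose_map] at h2
      exact h2
    refine ⟨g', Equiv.ext fun a => ?_⟩
    refine (hπ g' a _).mp ?_
    obtain ⟨c, hc⟩ := (hπ g (τ a) _).mpr rfl
    obtain ⟨d, hd0, hd'⟩ := hσv (τ a)
    obtain ⟨d2, -, hd2⟩ := hσv (π g (τ a))
    rw [show τ (τ a) = a by rw [← Equiv.Perm.mul_apply, hττ]; rfl] at hd'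
    refine ⟨d⁻¹ * (σ c * d2), ?_⟩
    show ((g' : Matrix.SpecialLinearGroup (Fin 3) K) : Matrix (Fin 3) (Fin 3) K) *ᵥ vU i (vecU a) = _
    have h1 : A.map σ *ᵥ (σ ∘ vU i (vecU (τ a))) = σ c • (σ ∘ vU i (vecU (π g (τ a)))) := by
      funext k
      rw [hA]
      refine ((RingHom.map_mulVec σ.toRingHom _ (vU i (vecU (τ a))) k).symm).trans ?_
      show σ ((((g : Matrix.SpecialLinearGroup (Fin 3) K) : Matrix (Fin 3) (Fin 3) K) *ᵥ vU i (vecU (τ a))) k) = _
      rw [hc, Pi.smul_apply, smul_eq_mul, map_mul]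
      rfl
    rw [hd', hd2, Matrix.mulVec_smul, smul_smul] at h1
    simp only [Equiv.Perm.mul_apply]
    rw [hg', ← smul_smul, ← h1, smul_smul, inv_mul_cancel₀ hd0, one_smul]
  -- the group of type G2 inside the extension by the field automorphism
  have hflip : ∀ {p q : Equiv.Perm (Fin 63)}, p * τ ∈ H → τ * q * τ ∈ H → p * q * τ ∈ H := fun {p q} hp hq => by
    have := mul_mem hp hq
    rwa [show p * τ * (τ * q * τ) = p * (τ * τ) * q * τ by group, hττ, mul_one] at this
  have hτinv : τ⁻¹ = τ := inv_eq_of_mul_eq_one_right hττ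
  let E : Subgroup (Equiv.Perm (Fin 63)) :=
    { carrier := {x | x ∈ H ∨ x * τ ∈ H}
      one_mem' := Or.inl (one_mem H)
      mul_mem' := by
        rintro p q (hp | hp) (hq | hq)
        · exact Or.inl (mul_mem hp hq)
        · exact Or.inr (by rw [mul_assoc]; exact mul_mem hp hq)
        · exact Or.inr (hflip hp (hnorm _ hq))
        · refine Or.inl ?_
          have := mul_mem hp (hnorm _ hq)
          rwa [show p * τ * (τ * (q * τ) * τ) = p * (τ * τ) * q * (τ * τ) by group, hττ, mul_one, mul_one] at this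
      inv_mem' := by
        rintro p (hp | hp)
        · exact Or.inl (inv_mem hp)
        · refine Or.inr ?_
          have := hnorm _ (inv_mem hp)
          rwa [_root_.mul_inv_rev, hτinv, show τ * (τ * p⁻¹) * τ = τ * τ * p⁻¹ * τ by group, hττ, one_mul] at this }
  have hE : ∀ g, ρ g ∈ E := by
    have hgenE : ∀ (r : ℕ) (t : F), ρ ⟨factsG2.xg r t, factsG2.xg_mem_group r t⟩ ∈ E := by
      intro r t
      by_cases hr : r < 12
      swap
      · rw [show (⟨factsG2.xg r t, factsG2.xg_mem_group r t⟩ : chevG2.group F) = 1 from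
          Subtype.ext (factsG2.xg_out (show chevG2.nroots ≤ r from Nat.le_of_not_lt hr) t), map_one]
        exact one_mem E
      rcases cases_F hF t with rfl | rfl
      · rw [show (⟨factsG2.xg r 0, factsG2.xg_mem_group r 0⟩ : chevG2.group F) = 1 from
          Subtype.ext (factsG2.xg_zero r), map_one]
        exact one_mem E
      obtain ⟨g, hg⟩ := exists_table_matrix hσ hK hi hr
      have hact : ∀ a : Fin 63, π g (if twist r = 1 then τ a else a) = ⟨perm r a, (table_G r hr a a.isLt).1⟩ := by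
        intro a
        refine (hπ g _ _).mp ⟨el i (findU (imU r a 0) (imU r a 1) (imU r a 2) % 16), funext fun t => ?_⟩
        have hidx : ((if twist r = 1 then τ a else a : Fin 63) : ℕ) = if twist r = 1 then tau a else (a : ℕ) := by
          split_ifs
          exacts [hτ a, rfl]
        rw [Pi.smul_apply, smul_eq_mul, Matrix.mulVec, dotProduct, Fin.sum_univ_three]
        simp only [vU, hg, hidx, Fin.val_zero, Fin.val_one, Fin.val_two, ← el_mul hK hi, ← el_add hK]
        exact congrArg (el i) ((table_U r hr a a.isLt).2 t t.isLt)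
      by_cases he : twist r = 1
      · refine Or.inr (hH ▸ ⟨g, Equiv.ext fun a => ?_⟩)
        rw [Equiv.Perm.mul_apply, hρ r hr, ← hact, if_pos he, ← Equiv.Perm.mul_apply τ τ, hττ]
        rfl
      · refine Or.inl (hH ▸ ⟨g, Equiv.ext fun a => ?_⟩)
        rw [hρ r hr, ← hact, if_neg he]
    rintro ⟨g, hg⟩
    have hle : chevG2.group F ≤ (E.comap ρ).map (chevG2.group F).subtype := by
      refine (le_of_eq (factsG2.group_eq (F := F))).trans ((Subgroup.closure_le _).2 ?_)
      rintro _ ⟨⟨r, t⟩, rfl⟩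
      exact ⟨⟨factsG2.xg r t, factsG2.xg_mem_group r t⟩, hgenE r t, rfl⟩
    obtain ⟨g', hg', e⟩ := hle hg
    rwa [show (⟨g, hg⟩ : chevG2.group F) = g' from Subtype.ext e.symm]
  -- orders
  letI : StarRing K := Cfsg.Agent.Small.Hermitian.starRingOfInvolution σ.toRingHom hσ.involutive
  have hstar : ∀ x : K, star x = x ^ 3 := fun x => hσ.apply_eq x
  have hperf := Cfsg.Agent.Small.Unitary.commutator_eq_top (n := 3) hstar (by rw [hK]; norm_num) le_rfl (by norm_num)
  have hZ : Subgroup.center (Cfsg.SU 3 K 3) = ⊥ := Subgroup.eq_bot_of_card_eq _ (by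
    rw [Cfsg.Agent.Classical.UCount.card_center_SU hσ (by norm_num)]; rfl)
  have hπinj : Function.Injective π := (injective_iff_map_eq_one π).mpr fun g hg => by
    have hline : ∀ v, Cfsg.hermForm 3 K 3 v v ≠ 0 → ∃ c : K,
        ((g : Matrix.SpecialLinearGroup (Fin 3) K) : Matrix (Fin 3) (Fin 3) K) *ᵥ v = c • v := fun v hv => by
      obtain ⟨b, d, rfl⟩ := vU_cover hσ hK hi v hv
      obtain ⟨c, hc⟩ := (hπ g b b).mpr (by rw [hg]; rfl)
      exact ⟨c, by rw [Matrix.mulVec_smul, hc, smul_comm]⟩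
    obtain ⟨A, hA⟩ : ∃ A, A = ((g : Matrix.SpecialLinearGroup (Fin 3) K) : Matrix (Fin 3) (Fin 3) K) := ⟨_, rfl⟩
    rw [← hA] at hline
    have h20 : (2 : K) ≠ 0 := fun e => one_ne_zero (α := K) (by linear_combination three_zero hK - e)
    obtain ⟨z, hz⟩ : ∃ z : K, A = z • 1 := by
      obtain ⟨a, ha⟩ := hline ![1, 0, 0] (by simp [Cfsg.hermForm, Fin.sum_univ_three])
      obtain ⟨b, hb⟩ := hline ![0, 1, 0] (by simp [Cfsg.hermForm, Fin.sum_univ_three])
      obtain ⟨c, hc⟩ := hline ![0, 0, 1] (by simp [Cfsg.hermForm, Fin.sum_univ_three])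
      obtain ⟨d, hd⟩ := hline ![1, 1, 0] (by simp [Cfsg.hermForm, Fin.sum_univ_three, one_add_one_eq_two, h20])
      obtain ⟨d', hd'⟩ := hline ![0, 1, 1] (by simp [Cfsg.hermForm, Fin.sum_univ_three, one_add_one_eq_two, h20])
      have ea := congrFun ha; have eb := congrFun hb; have ec := congrFun hc
      have ed := congrFun hd; have ed' := congrFun hd'
      simp [Matrix.mulVec, dotProduct, Fin.sum_univ_three, Fin.forall_fin_succ] at ea eb ec ed ed'
      refine ⟨a, ?_⟩
      ext k l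
      fin_cases k <;> fin_cases l <;> simp_all
    have hm : g ∈ Subgroup.center (Cfsg.SU 3 K 3) := Subgroup.mem_center_iff.mpr fun k =>
      Subtype.ext (Subtype.ext (by
        simp only [Subgroup.coe_mul, Matrix.SpecialLinearGroup.coe_mul, ← hA, hz, Matrix.mul_smul, Matrix.smul_mul,
          mul_one, one_mul]))
    rwa [hZ, Subgroup.mem_bot] at hm
  have hSU : Nat.card (Cfsg.SU 3 K 3) = 6048 := by
    have h := Cfsg.Agent.Classical.UCount.card_SU hσ (n := 3) (by norm_num)
    rw [Cfsg.Agent.Classical.UCount.card_GU hσ 3] at h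
    rw [show (3 : ℕ) ^ (3 * (3 - 1) / 2) * (∏ k ∈ Finset.range 3,
      (if Even k then (3 : ℕ) ^ (k + 1) + 1 else 3 ^ (k + 1) - 1)) = 24192 by decide] at h
    omega
  let e1 : Cfsg.SU 3 K 3 ≃* π.range := MonoidHom.ofInjective hπinj
  have hHcard : Nat.card H = 6048 := by rw [hH, ← Nat.card_congr e1.toEquiv, hSU]
  have hEcard : Nat.card E ≤ 12096 := by
    have hs : Function.Surjective (fun z : H × Bool => (⟨(z.1 : Equiv.Perm (Fin 63)) * (if z.2 then τ else 1), by
        cases z.2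
        · exact Or.inl (by simp)
        · exact Or.inr (by simp [mul_assoc, hττ])⟩ : E)) := by
      rintro ⟨x, hx | hx⟩
      · exact ⟨(⟨x, hx⟩, false), Subtype.ext (by simp)⟩
      · exact ⟨(⟨x * τ, hx⟩, true), Subtype.ext (by simp [mul_assoc, hττ])⟩
    have := Nat.card_le_card_of_surjective _ hs
    rwa [Nat.card_prod, hHcard, Nat.card_eq_fintype_card (α := Bool), Fintype.card_bool] at this
  have hρE : ρ.range = E := by
    refine Subgroup.eq_of_le_of_card_ge (by rintro _ ⟨g, rfl⟩; exact hE g) ?_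
    rw [← Nat.card_congr (MonoidHom.ofInjective hρinj).toEquiv, card_G2 hF]
    exact hEcard
  have hcomm : (commutator (chevG2.group F)).map ρ = H := by
    rw [commutator_def, Subgroup.map_commutator, ← MonoidHom.range_eq_map, hρE]
    refine le_antisymm (Subgroup.commutator_le.mpr ?_) ?_
    · have hc : ∀ x ∈ H, ∀ y ∈ E, y * x * y⁻¹ ∈ H := fun x hx y hy => by
        rcases hy with hy | hy
        · exact mul_mem (mul_mem hy hx) (inv_mem hy)
        · have := mul_mem (mul_mem hy (hnorm _ hx)) (inv_mem hy)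
          rwa [_root_.mul_inv_rev, hτinv, show y * τ * (τ * x * τ) * (τ * y⁻¹) = y * (τ * τ) * x * (τ * τ) * y⁻¹ by group,
            hττ, mul_one, mul_one] at this
      rintro x (hx | hx) y (hy | hy) <;> rw [commutatorElement_def]
      · exact mul_mem (mul_mem (mul_mem hx hy) (inv_mem hx)) (inv_mem hy)
      · rw [mul_assoc x y, mul_assoc x]
        exact mul_mem hx (hc _ (inv_mem hx) y (Or.inr hy))
      · exact mul_mem (hc y hy x (Or.inr hx)) (inv_mem hy)
      · have h1 := mul_mem (mul_mem hx (hnorm _ hy)) (mul_mem (hnorm _ (inv_mem hx)) (inv_mem hy))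
        rwa [_root_.mul_inv_rev, _root_.mul_inv_rev, hτinv,
          show x * τ * (τ * (y * τ) * τ) * (τ * (τ * x⁻¹) * τ * (τ * y⁻¹)) =
            x * (τ * τ) * y * (τ * τ) * (τ * τ) * x⁻¹ * (τ * τ) * y⁻¹ by group, hττ, mul_one, mul_one, mul_one, mul_one] at h1
    · have hp : (commutator (Cfsg.SU 3 K 3)).map π = H := by
        rw [hperf, ← MonoidHom.range_eq_map, hH]
      rw [← hp, commutator_def, Subgroup.map_commutator, ← MonoidHom.range_eq_map, ← hH]
      exact Subgroup.commutator_mono (fun x hx => Or.inl hx) (fun x hx => Or.inl hx)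
  exact ⟨((commutator (chevG2.group F)).equivMapOfInjective ρ hρinj).trans
    ((MulEquiv.subgroupCongr (hcomm.trans hH)).trans (e1.symm.trans
      ((QuotientGroup.quotientBot).symm.trans (QuotientGroup.quotientMulEquivOfEq hZ.symm))))⟩

end Cfsg.Agent.Lie.G2Two
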